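import Cfsg.Agent.EqLemmas

/-
Data for weak closure of the central involution in the core (helper33; generated from the coded model).

* `toFix` : a word taking each singular vector to 128
* `outW`, `inW` : stabiliser words for vectors outside and inside the four dimensional piece
* `stabW`, `stabG`, `spread` : nine products of conjugates of each element moving the piece
-/

set_option autoImplicit false
set_option maxRecDepth 20000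

namespace Cfsg.Agent.CoTwoType.WeakClosed.Data

/-- A word taking the vector to 128. -/
def toFix : List (List (Fin 7)) := [
  [], [3, 1, 2, 0, 6, 5], [3, 1, 6, 5], [3, 1, 2, 6, 5], [2, 0, 4, 5], [3, 2, 0, 6, 5],
  [2, 3, 2, 6, 5], [2, 3, 6, 5], [4, 5], [2, 0, 3, 1, 6, 5], [3, 6, 5], [2, 3, 1, 6, 5],
  [2, 4, 5], [2, 0, 3, 6, 5], [2, 3, 1, 2, 6, 5], [3, 2, 6, 5], [3, 1, 2, 0], [3, 1, 2, 0, 6],
  [2, 3, 2, 4, 3, 1, 2], [2, 3, 2, 4, 3, 1], [3, 2, 0, 4, 6], [3, 2, 0, 4], [3, 2, 4, 3], [3, 2, 4, 3, 2],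
  [], [], [], [], [], [],
  [], [], [3, 1], [2, 3, 1, 2, 4, 3, 1, 2], [3, 1, 6], [2, 3, 2, 4, 3, 1, 5],
  [], [], [], [], [3, 4, 3], [2, 3, 2, 4, 3, 5, 4],
  [3, 4], [3, 2, 0, 4, 3, 2], [], [], [], [],
  [3, 1, 2], [2, 3, 1, 2, 4, 3, 1], [2, 3, 1, 2, 4, 3, 1, 6], [3, 1, 2, 6], [], [],
  [], [], [], [], [], [],
  [3, 2, 4, 6], [3, 2, 0, 4, 3, 6], [3, 2, 0, 4, 3], [3, 2, 4], [2, 0], [3, 1, 2, 0, 4, 5],
  [], [], [2, 0, 4], [3, 2, 0, 4, 5], [], [],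
  [3, 1, 2, 0, 4, 3, 1, 2, 0, 3], [2, 0, 3, 1, 4, 3], [], [], [3, 2, 0, 4, 3, 1, 2, 3, 5], [2, 0, 3, 4, 5],
  [], [], [3, 2, 0], [3, 1, 2, 0, 4], [], [],
  [3, 1, 2, 0, 4, 6], [3, 2, 0, 6], [], [], [], [],
  [2, 3, 2, 4, 3, 2], [3, 2, 4, 3, 1, 2], [], [], [3, 2, 4, 3, 1], [2, 3, 2, 4, 3],
  [2, 3, 2], [3, 1, 2, 4, 3], [], [], [], [],
  [2, 3, 2, 6], [3, 1, 2, 4, 3, 6], [2, 3, 1, 2, 4, 6], [3, 1, 2, 0, 4, 3, 1, 6], [], [],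
  [], [], [2, 3, 1, 2, 4], [3, 1, 2, 0, 4, 3, 1], [2, 3], [3, 1, 2, 4, 3, 2],
  [], [], [], [], [3, 2, 4, 3, 5], [2, 3, 6],
  [], [], [3, 1, 2, 0, 4, 3, 1, 2], [2, 3, 1, 4], [2, 3, 1, 4, 6], [3, 2, 4, 3, 1, 5, 4],
  [], [], [], [], [3, 1, 4, 3], [],
  [2, 3, 2, 4, 3, 1, 5, 4, 3], [], [2, 3, 2, 4, 5], [], [4], [],
  [3, 4, 5], [], [3, 2, 0, 4, 3, 1, 2, 3], [], [2, 3, 1, 2, 4, 5], [],
  [2, 0, 3, 1], [], [3, 1, 2, 0, 4, 3, 2, 0], [], [2, 0, 3, 4, 3], [],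
  [3, 2, 0, 4, 3, 1, 5], [], [], [2, 0, 3, 1, 6], [], [3, 2, 0, 4, 3, 2, 5],
  [], [2, 0, 3, 4], [], [3, 1, 2, 0, 4, 3, 1, 5], [3], [],
  [3, 1, 4], [], [], [2, 3, 1, 2, 4, 3, 2], [], [3, 2, 0, 4, 3, 1, 2],
  [3, 1, 4, 6], [], [3, 6], [], [], [2, 3, 2, 4, 3, 1, 5, 4],
  [], [2, 3, 2, 4, 3, 5], [2, 3, 1], [], [3, 1, 2, 0, 4, 3, 2], [],
  [], [3, 1, 2, 4, 3, 1, 2], [], [2, 3, 4], [], [3, 2, 4, 3, 5, 4],
  [], [2, 3, 1, 6], [2, 3, 4, 3], [], [3, 2, 4, 3, 1, 5], [],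
  [2], [], [], [3, 1, 2, 4, 5], [3, 2, 4, 3, 1, 5, 4, 3], [],
  [], [2, 3, 4, 5], [3, 1, 2, 0, 4, 3, 1, 2, 3], [], [], [2, 3, 1, 4, 3],
  [2, 4], [], [], [3, 2, 4, 5], [2, 0, 3], [],
  [], [3, 1, 2, 0, 4, 3, 5], [2, 0, 3, 1, 4, 6], [], [], [3, 2, 0, 4, 3, 1, 2, 5],
  [], [2, 0, 3, 1, 4], [3, 1, 2, 0, 4, 3, 1, 2, 0], [], [], [2, 0, 3, 6],
  [3, 2, 0, 4, 3, 5], [], [2, 3, 1, 2], [], [], [3, 1, 2, 0, 4, 3],
  [], [3, 1, 2, 4, 3, 1], [2, 3, 2, 4], [], [2, 3, 2, 4, 6], [],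
  [], [3, 1, 2, 4, 3, 1, 6], [], [3, 1, 2, 0, 4, 3, 6], [2, 3, 1, 2, 6], [],
  [3, 2], [], [], [3, 1, 2, 4], [], [2, 3, 1, 2, 4, 3],
  [3, 2, 0, 4, 3, 1], [], [], [3, 2, 0, 4, 3, 1, 6], [2, 3, 1, 2, 4, 3, 6], [],
  [3, 1, 2, 4, 6], [], [], [3, 2, 6]]

/-- A word moving the vector to one not orthogonal to it. -/
def outW : List (List (Fin 7)) := [
  [], [], [5, 2, 0, 3, 1, 2, 3, 0, 2], [], [0, 3, 1, 4, 3, 5, 4, 1, 3], [],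
  [3, 1, 4, 6, 5, 3, 4, 3], [], [], [], [5, 2, 0, 3, 1, 2, 3, 0, 2], [],
  [0, 3, 1, 4, 3, 5, 4, 1, 3], [], [3, 1, 4, 6, 5, 3, 4, 3], [], [0, 4, 6], [],
  [0, 4, 6], [], [0, 4, 6], [], [0, 4, 6], [],
  [], [], [], [], [], [],
  [], [], [], [], [5, 2, 0, 3, 1, 2, 3, 0, 2], [],
  [], [], [], [], [], [],
  [5, 2, 0, 3, 1, 2, 3, 0, 2], [], [], [], [], [],
  [0, 4, 6], [], [0, 4, 6], [], [], [],
  [], [], [], [], [], [],
  [0, 4, 6], [], [0, 4, 6], [], [], [],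
  [], [], [0, 3, 1, 4, 3, 5, 4, 1, 3], [], [], [],
  [], [], [], [], [0, 3, 1, 4, 3, 5, 4, 1, 3], [],
  [], [], [0, 4, 6], [], [], [],
  [0, 4, 6], [], [], [], [], [],
  [0, 4, 6], [], [], [], [0, 4, 6], [],
  [], [], [], [], [], [],
  [0, 3, 1, 4, 3, 5, 4, 1, 3], [], [], [], [], [],
  [], [], [0, 3, 1, 4, 3, 5, 4, 1, 3], [], [0, 4, 6], [],
  [], [], [], [], [0, 4, 6], [],
  [], [], [0, 4, 6], [], [0, 4, 6], [],
  [], [], [], [], [5, 2, 0, 3, 1, 2, 3, 0, 2], [],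
  [0, 3, 1, 4, 3, 5, 4, 1, 3], [], [3, 1, 4, 6, 5, 3, 4, 3], [], [], [],
  [5, 2, 0, 3, 1, 2, 3, 0, 2], [], [0, 3, 1, 4, 3, 5, 4, 1, 3], [], [3, 1, 4, 6, 5, 3, 4, 3], [],
  [0, 4, 6], [], [0, 4, 6], [], [0, 4, 6], [],
  [0, 4, 6], [], [], [], [], [],
  [], [], [], [], [], [],
  [5, 2, 0, 3, 1, 2, 3, 0, 2], [], [], [], [], [],
  [], [], [5, 2, 0, 3, 1, 2, 3, 0, 2], [], [], [],
  [], [], [0, 4, 6], [], [0, 4, 6], [],
  [], [], [], [], [], [],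
  [], [], [0, 4, 6], [], [0, 4, 6], [],
  [], [], [], [], [0, 3, 1, 4, 3, 5, 4, 1, 3], [],
  [], [], [], [], [], [],
  [0, 3, 1, 4, 3, 5, 4, 1, 3], [], [], [], [0, 4, 6], [],
  [], [], [0, 4, 6], [], [], [],
  [], [], [0, 4, 6], [], [], [],
  [0, 4, 6], [], [], [], [], [],
  [], [], [0, 3, 1, 4, 3, 5, 4, 1, 3], [], [], [],
  [], [], [], [], [0, 3, 1, 4, 3, 5, 4, 1, 3], [],
  [0, 4, 6], [], [], [], [], [],
  [0, 4, 6], [], [], [], [0, 4, 6], [],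
  [0, 4, 6], [], [], []]

/-- Words spreading the vector over the piece. -/
def inW : List (List (Fin 7) × List (Fin 7)) := [
  ([], []), ([], []), ([], []), ([], []),
  ([], []), ([], []), ([], []), ([], []),
  ([3, 1, 4, 3, 5, 4, 1, 3], [2, 3, 1, 4, 3, 5, 4, 1, 3, 2]), ([], []), ([], []), ([], []),
  ([], []), ([], []), ([], []), ([], []),
  ([], []), ([], []), ([], []), ([], []),
  ([], []), ([], []), ([], []), ([], []),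
  ([], []), ([], []), ([], []), ([], []),
  ([], []), ([], []), ([], []), ([], []),
  ([4, 6], [2, 0, 3, 1, 2, 3, 0, 2]), ([], []), ([], []), ([], []),
  ([], []), ([], []), ([], []), ([], []),
  ([4, 6], [2, 0, 3, 1, 2, 3, 0, 2]), ([], []), ([], []), ([], []),
  ([], []), ([], []), ([], []), ([], []),
  ([], []), ([], []), ([], []), ([], []),
  ([], []), ([], []), ([], []), ([], []),
  ([], []), ([], []), ([], []), ([], []),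
  ([], []), ([], []), ([], []), ([], []),
  ([2, 0, 3, 1, 2, 3, 0, 2], [4, 6, 2, 0, 3, 1, 2, 3, 0, 2]), ([], []), ([], []), ([], []),
  ([], []), ([], []), ([], []), ([], []),
  ([2, 0, 3, 1, 2, 3, 0, 2], [3, 1, 4, 6, 5, 3, 4, 3]), ([], []), ([], []), ([], []),
  ([], []), ([], []), ([], []), ([], []),
  ([], []), ([], []), ([], []), ([], []),
  ([], []), ([], []), ([], []), ([], []),
  ([], []), ([], []), ([], []), ([], []),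
  ([], []), ([], []), ([], []), ([], []),
  ([4, 6], [3, 1, 4, 3, 5, 4, 1, 3]), ([], []), ([], []), ([], []),
  ([], []), ([], []), ([], []), ([], []),
  ([4, 6], [3, 1, 6, 5, 4, 5, 6, 3]), ([], []), ([], []), ([], []),
  ([], []), ([], []), ([], []), ([], []),
  ([], []), ([], []), ([], []), ([], []),
  ([], []), ([], []), ([], []), ([], []),
  ([], []), ([], []), ([], []), ([], []),
  ([], []), ([], []), ([], []), ([], []),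
  ([], []), ([], []), ([], []), ([], []),
  ([], []), ([], []), ([], []), ([], []),
  ([3, 1, 4, 3, 5, 4, 1, 3], [2, 3, 1, 4, 3, 5, 4, 1, 3, 2]), ([], []), ([], []), ([], []),
  ([], []), ([], []), ([], []), ([], []),
  ([], []), ([], []), ([], []), ([], []),
  ([], []), ([], []), ([], []), ([], []),
  ([], []), ([], []), ([], []), ([], []),
  ([], []), ([], []), ([], []), ([], []),
  ([4, 6], [2, 0, 3, 1, 2, 3, 0, 2]), ([], []), ([], []), ([], []),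
  ([], []), ([], []), ([], []), ([], []),
  ([4, 6], [2, 0, 3, 1, 2, 3, 0, 2]), ([], []), ([], []), ([], []),
  ([], []), ([], []), ([], []), ([], []),
  ([], []), ([], []), ([], []), ([], []),
  ([], []), ([], []), ([], []), ([], []),
  ([], []), ([], []), ([], []), ([], []),
  ([], []), ([], []), ([], []), ([], []),
  ([2, 0, 3, 1, 2, 3, 0, 2], [4, 6, 2, 0, 3, 1, 2, 3, 0, 2]), ([], []), ([], []), ([], []),
  ([], []), ([], []), ([], []), ([], []),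
  ([2, 0, 3, 1, 2, 3, 0, 2], [3, 1, 4, 6, 5, 3, 4, 3]), ([], []), ([], []), ([], []),
  ([], []), ([], []), ([], []), ([], []),
  ([], []), ([], []), ([], []), ([], []),
  ([], []), ([], []), ([], []), ([], []),
  ([], []), ([], []), ([], []), ([], []),
  ([], []), ([], []), ([], []), ([], []),
  ([4, 6], [3, 1, 4, 3, 5, 4, 1, 3]), ([], []), ([], []), ([], []),
  ([], []), ([], []), ([], []), ([], []),
  ([4, 6], [3, 1, 6, 5, 4, 5, 6, 3]), ([], []), ([], []), ([], []),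
  ([], []), ([], []), ([], []), ([], []),
  ([], []), ([], []), ([], []), ([], []),
  ([], []), ([], []), ([], []), ([], []),
  ([], []), ([], []), ([], []), ([], []),
  ([], []), ([], []), ([], []), ([], [])]

/-- Words fixing 128. -/
def stabW : List (List (Fin 7)) := [
  [],
  [3, 1, 2, 0, 4, 3, 6, 2, 4, 5, 3, 4, 2, 3],
  [3, 2, 4, 3, 5, 4, 6, 2, 3, 4, 0, 2, 1, 3],
  [3, 1, 2, 0, 4, 3, 6, 2, 4, 5, 3, 4, 2, 3, 3, 1, 2, 0, 4, 3, 6, 2, 4, 5, 3, 4, 2, 3],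
  [3, 2, 4, 3, 5, 4, 6, 2, 3, 4, 0, 2, 1, 3, 3, 2, 4, 3, 5, 4, 6, 2, 3, 4, 0, 2, 1, 3],
  [4, 6],
  [2, 0, 3, 1, 2, 3, 0, 2]]

/-- Their conjugation codes. -/
def stabG : List ℕ := [
  0x10040100401004010040080200802008020080200,
  0x100a0444ab91fa2267400809430178a0955c36e00,
  0x10128602f1412ab86dc00805022255c8fd1133a00,
  0x10008a4011d10ead0140080b06a2ec40085502200,
  0x10160d45d88010aa04400800452008e8875680a00,
  0x10040d45501004050140080206a2a808020280a00,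
  0x100a0605c0100a0641c008050302e008050320e00]

/-- Pairs of conjugators, by position in the listed subgroup. -/
def spread : List (ℕ × List (ℕ × ℕ)) := [
  (1, [(0, 0), (0, 1), (0, 2), (0, 3), (0, 4), (0, 5), (0, 6), (1, 2), (1, 3)]),
  (2, [(0, 0), (0, 1), (0, 2), (0, 3), (0, 4), (1, 2), (1, 3), (1, 4), (2, 3)]),
  (3, [(0, 0), (0, 1), (0, 2), (0, 3), (0, 4), (1, 2), (1, 3), (1, 4), (2, 3)]),
  (5, [(0, 0), (0, 1), (0, 2), (0, 3), (0, 4), (1, 2), (1, 3), (1, 4), (2, 3)]),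
  (7, [(0, 0), (0, 1), (0, 2), (0, 3), (0, 4), (0, 5), (0, 6), (1, 2), (1, 3)]),
  (8, [(0, 0), (0, 1), (0, 2), (0, 3), (0, 4), (0, 6), (1, 2), (1, 3), (1, 4)]),
  (10, [(0, 0), (0, 1), (0, 2), (0, 3), (0, 4), (0, 5), (0, 6), (1, 2), (1, 3)]),
  (12, [(0, 0), (0, 1), (0, 2), (0, 3), (0, 4), (1, 2), (1, 3), (1, 4), (2, 3)]),
  (17, [(0, 0), (0, 1), (0, 2), (0, 3), (0, 4), (0, 6), (1, 2), (1, 3), (1, 4)]),
  (20, [(0, 0), (0, 1), (0, 2), (0, 3), (0, 4), (0, 6), (1, 2), (1, 3), (1, 4)]),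
  (29, [(0, 0), (0, 1), (0, 2), (0, 3), (0, 4), (0, 5), (0, 6), (1, 2), (1, 5)]),
  (31, [(0, 0), (0, 1), (0, 2), (0, 3), (0, 4), (0, 6), (1, 2), (1, 3), (1, 4)]),
  (34, [(0, 0), (0, 1), (0, 2), (0, 3), (0, 4), (0, 5), (0, 6), (1, 2), (1, 3)]),
  (37, [(0, 0), (0, 1), (0, 2), (0, 3), (0, 4), (0, 5), (0, 6), (1, 2), (1, 3)]),
  (47, [(0, 0), (0, 1), (0, 2), (0, 3), (0, 4), (0, 6), (1, 2), (1, 3), (1, 4)]),
  (50, [(0, 0), (0, 1), (0, 2), (0, 3), (0, 4), (1, 2), (1, 3), (1, 4), (2, 3)]),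
  (58, [(0, 0), (0, 1), (0, 2), (0, 3), (0, 4), (0, 6), (1, 2), (1, 3), (1, 4)]),
  (66, [(0, 0), (0, 1), (0, 2), (0, 3), (0, 4), (0, 6), (1, 2), (1, 6), (2, 3)]),
  (81, [(0, 0), (0, 1), (0, 2), (0, 3), (0, 4), (0, 5), (0, 6), (1, 2), (1, 3)]),
  (84, [(0, 0), (0, 1), (0, 2), (0, 3), (0, 4), (0, 5), (0, 6), (1, 2), (1, 3)]),
  (87, [(0, 0), (0, 1), (0, 2), (0, 3), (0, 4), (1, 2), (1, 3), (1, 4), (2, 3)]),
  (91, [(0, 0), (0, 1), (0, 2), (0, 3), (0, 4), (0, 6), (1, 2), (1, 3), (1, 4)]),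
  (93, [(0, 0), (0, 1), (0, 2), (0, 3), (0, 4), (0, 5), (0, 6), (1, 2), (1, 3)]),
  (96, [(0, 0), (0, 1), (0, 2), (0, 3), (0, 4), (0, 5), (0, 6), (1, 2), (1, 3)]),
  (104, [(0, 0), (0, 1), (0, 2), (0, 3), (0, 4), (1, 2), (1, 3), (1, 4), (2, 3)]),
  (112, [(0, 0), (0, 1), (0, 2), (0, 3), (0, 4), (0, 5), (0, 6), (1, 2), (1, 3)]),
  (127, [(0, 0), (0, 1), (0, 2), (0, 3), (0, 4), (0, 5), (0, 6), (1, 2), (1, 3)]),
  (130, [(0, 0), (0, 1), (0, 2), (0, 3), (0, 4), (0, 5), (0, 6), (1, 2), (1, 3)]),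
  (137, [(0, 0), (0, 1), (0, 2), (0, 3), (0, 4), (0, 5), (0, 6), (1, 2), (1, 3)]),
  (147, [(0, 0), (0, 1), (0, 2), (0, 3), (0, 4), (0, 6), (1, 2), (1, 3), (1, 4)]),
  (160, [(0, 0), (0, 1), (0, 2), (0, 3), (0, 4), (0, 5), (1, 2), (1, 3), (1, 4)]),
  (164, [(0, 0), (0, 1), (0, 2), (0, 3), (0, 4), (0, 5), (0, 6), (1, 2), (1, 3)]),
  (178, [(0, 0), (0, 1), (0, 2), (0, 3), (0, 4), (0, 5), (0, 6), (1, 2), (1, 3)]),
  (204, [(0, 0), (0, 1), (0, 2), (0, 3), (0, 4), (0, 5), (1, 2), (1, 3), (1, 4)]),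
  (206, [(0, 0), (0, 1), (0, 2), (0, 3), (0, 4), (0, 5), (0, 6), (1, 2), (1, 5)]),
  (208, [(0, 0), (0, 1), (0, 2), (0, 3), (0, 4), (1, 2), (1, 3), (1, 4), (2, 3)]),
  (212, [(0, 0), (0, 1), (0, 2), (0, 3), (0, 4), (0, 6), (1, 2), (1, 3), (1, 4)]),
  (215, [(0, 0), (0, 1), (0, 2), (0, 3), (0, 4), (0, 5), (1, 2), (1, 5), (2, 3)]),
  (230, [(0, 0), (0, 1), (0, 2), (0, 3), (0, 4), (0, 5), (1, 2), (1, 3), (1, 4)]),
  (238, [(0, 0), (0, 1), (0, 2), (0, 3), (0, 4), (0, 6), (1, 2), (1, 3), (1, 4)]),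
  (251, [(0, 0), (0, 1), (0, 2), (0, 3), (0, 4), (0, 5), (0, 6), (1, 2), (1, 3)]),
  (255, [(0, 0), (0, 1), (0, 2), (0, 3), (0, 4), (0, 5), (0, 6), (1, 2), (1, 3)]),
  (258, [(0, 0), (0, 1), (0, 2), (0, 3), (0, 4), (0, 5), (1, 2), (1, 3), (1, 4)]),
  (269, [(0, 0), (0, 1), (0, 2), (0, 3), (0, 4), (0, 5), (1, 2), (1, 3), (1, 4)]),
  (295, [(0, 0), (0, 1), (0, 2), (0, 3), (0, 4), (0, 5), (0, 6), (1, 2), (1, 3)]),
  (297, [(0, 0), (0, 1), (0, 2), (0, 3), (0, 4), (0, 5), (0, 6), (1, 2), (1, 3)]),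
  (299, [(0, 0), (0, 1), (0, 2), (0, 3), (0, 4), (0, 5), (0, 6), (1, 2), (1, 5)]),
  (303, [(0, 0), (0, 1), (0, 2), (0, 3), (0, 4), (0, 5), (0, 6), (1, 2), (1, 3)]),
  (306, [(0, 0), (0, 1), (0, 2), (0, 3), (0, 4), (0, 6), (1, 2), (1, 3), (1, 4)]),
  (324, [(0, 0), (0, 1), (0, 2), (0, 3), (0, 4), (0, 5), (0, 6), (1, 2), (1, 4)]),
  (338, [(0, 0), (0, 1), (0, 2), (0, 3), (0, 4), (0, 5), (1, 2), (1, 3), (1, 4)]),
  (340, [(0, 0), (0, 1), (0, 2), (0, 3), (0, 4), (0, 5), (0, 6), (1, 2), (1, 3)]),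
  (354, [(0, 0), (0, 1), (0, 2), (0, 3), (0, 4), (0, 5), (0, 6), (1, 2), (1, 5)]),
  (362, [(0, 0), (0, 1), (0, 2), (0, 3), (0, 4), (0, 5), (1, 2), (1, 3), (1, 4)]),
  (418, [(0, 0), (0, 1), (0, 2), (0, 3), (0, 4), (0, 5), (0, 6), (1, 2), (1, 5)]),
  (440, [(0, 0), (0, 1), (0, 2), (0, 3), (0, 4), (0, 5), (0, 6), (1, 2), (1, 3)])]

end Cfsg.Agent.CoTwoType.WeakClosed.Data
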