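import Cfsg.Agent.Lib.CoTwoType.Twist.Tests
import Cfsg.Agent.Lib.CoTwoType.WeakClosed.Data

/-
Finite tests for weak closure of the central involution in the core (helper33).

* `okA`, `okB`, `movP` : conditions on a listed element of the image
* `check_toFix`, `check_outW`, `check_inW`, `check_stab`, `check_countA`, `check_spread`
-/

set_option autoImplicit false
set_option maxRecDepth 20000

namespace Cfsg.Agent.CoTwoType.WeakClosed

open CoTwoClose (mulF appF cone)
open Twist (sC conjGen conjOp allDiff)

/-- The image of a vector modulo the centre. -/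
def im8 (e u : ℕ) : ℕ := appF e u % 256

/-- The difference of a vector and its image. -/
def dif8 (e u : ℕ) : ℕ := im8 e u ^^^ u

/-- A basis of the vectors orthogonal to 128. -/
def perpB : List ℕ := [2, 4, 8, 16, 32, 64, 128]

/-- The four dimensional piece. -/
def piece : List ℕ := [0, 8, 32, 40, 64, 72, 96, 104, 128, 136, 160, 168, 192, 200, 224, 232]

/-- A transvection-like element over the line. -/
def okA (e : ℕ) : Bool := perpB.all fun u => dif8 e u == 0 || dif8 e u == 128

/-- An element compatible with the piece. -/
def okB (e : ℕ) : Bool :=
  (perpB.all fun u => piece.contains (dif8 e u)) && piece.all fun t => dif8 e t == 0 || dif8 e t == 128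

/-- An element moving the piece. -/
def movP (e : ℕ) : Bool := piece.any fun t => dif8 e t != 0

/-- A product of two conjugates. -/
def prodC (e : ℕ) (p : ℕ × ℕ) : ℕ :=
  mulF (conjOp e (Data.stabG.getD p.1 0)) (conjOp e (Data.stabG.getD p.2 0))

/-- The sixteen vectors spanned with 128. -/
def span4 (u a b : ℕ) : List ℕ :=
  let l := [0, u, a, u ^^^ a, b, u ^^^ b, a ^^^ b, u ^^^ a ^^^ b]
  l ++ l.map fun t => 128 ^^^ t

theorem check_toFix : ((List.range 256).all fun v =>
    v == 0 || bB v v || im8 (wordF (Data.toFix.getD v [])) v == 128) = true := by decide +kernel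

theorem check_outW : ((List.range 256).all fun u =>
    piece.contains u || bB u u || bB (u ^^^ 128) (u ^^^ 128) ||
      (im8 (wordF (Data.outW.getD u [])) 128 == 128 &&
        bB (dif8 (wordF (Data.outW.getD u [])) u) (dif8 (wordF (Data.outW.getD u [])) u))) = true := by decide +kernel

theorem check_inW : (piece.all fun u => u == 0 || u == 128 ||
    (im8 (wordF (Data.inW.getD u ([], [])).1) 128 == 128 && im8 (wordF (Data.inW.getD u ([], [])).2) 128 == 128 &&
      piece.all fun t => (span4 u (im8 (wordF (Data.inW.getD u ([], [])).1) u)
        (im8 (wordF (Data.inW.getD u ([], [])).2) u)).contains t)) = true := by decide +kernel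

theorem check_stab : ((List.range 7).all fun a =>
    im8 (wordF (Data.stabW.getD a [])) 128 == 128 &&
    (conjGen (Data.stabW.getD a []) == Data.stabG.getD a 0) &&
    (Data.stabG.getD a 0 >>> 81 == wordF (Data.stabW.getD a [])) &&
    ((Data.stabG.getD a 0 &&& (2 ^ 81 - 1)) == wordF (Data.stabW.getD a []).reverse)) = true := by decide +kernel

theorem check_syl : ((List.range 6).all fun k => im8 (sC (k + 1)) 128 == 128) = true := by decide +kernel

theorem check_countA : ((Finset.range 512).filter fun i => okA (sC i) = true).card ≤ 8 := by decide +kernel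

theorem check_piece : piece.Nodup ∧ piece.length = 16 ∧ (piece.all fun t => decide (t < 256)) = true ∧
    (perpB.all fun u => decide (u < 256) && qm u 128 == qm 128 u) = true := by decide +kernel

theorem check_spread : ((List.range 512).all fun i => !okB (sC i) || !movP (sC i) ||
    Data.spread.any fun q => q.1 == i && q.2.length == 9 && (q.2.all fun p => decide (p.1 < 7) && decide (p.2 < 7)) &&
      allDiff (q.2.map fun p => keyC (prodC (sC i) p))) = true := by decide +kernel

end Cfsg.Agent.CoTwoType.WeakClosed
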