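import Cfsg.Agent.Lib.CoTwoType.Twist.Image
import Cfsg.Agent.Lib.CoTwoType.CaseR.Tools
import Cfsg.Agent.Lib.CoTwoType.CaseR.Extra
import Cfsg.Agent.Lib.CoTwoType.WeakClosed.Checks

/-
Coordinates of the core and two-subgroups of the image, for weak closure (helper33).

* `Base.pv_add`, `pv_singular`, `act_pv8`, `pv_conj` : the coordinates
* `Base.act_rev8` : the inverse of the action of a word
* `Base.le_img` : a two-subgroup of the image normalised by the listed Sylow subgroup lies in it
-/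

set_option autoImplicit false
set_option linter.style.haveILetI false
set_option maxRecDepth 20000

namespace Cfsg.Agent.CoTwoType

open Cfsg.Agent.Multiplier.Sp6 Twist WeakClosed
open CoTwoClose (mulF cone letC appC appF appF_eq appC_lt)

universe u

theorem WeakClosed.qm_mod (a b : ℕ) : qm a b % 256 = a % 256 ^^^ b % 256 := by
  have h : ∀ x y : ℕ, (x ^^^ y) % 256 = x % 256 ^^^ y % 256 := fun x y => Nat.xor_mod_two_pow (n := 8)
  rw [qm, h, h]
  cases bB a b <;> simp

theorem WeakClosed.letC_sq : ∀ j : Fin 7, keyC (mulF (letC j.val) (letC j.val)) = keyC cone := by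
  decide +kernel

variable {G : Type u} [Group G] {z : G}

namespace Base

variable (L : Base z) (S : Setup z)

theorem pv_zero : L.pv S 0 = 0 := by rw [pv, L.x_zero, S.vc_one]

theorem pv_add {a b : ℕ} (ha : a < 256) (hb : b < 256) : L.pv S a + L.pv S b = L.pv S (a ^^^ b) := by
  have ha' : a < 512 := by omega
  have hb' : b < 512 := by omega
  have hx : a ^^^ b < 256 := Nat.xor_lt_two_pow (n := 8) ha hb
  rw [pv, pv, ← S.vc_mul (L.x_memQ S ha') (L.x_memQ S hb'), L.x_mul _ ha' _ hb']
  refine (L.pv_inj S (qm_lt _ ha' _ hb') (by omega)).2 ?_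
  rw [qm_mod, Nat.mod_eq_of_lt ha, Nat.mod_eq_of_lt hb, Nat.mod_eq_of_lt hx]

theorem pv_inj8 {a b : ℕ} (ha : a < 256) (hb : b < 256) : L.pv S a = L.pv S b ↔ a = b := by
  rw [L.pv_inj S (by omega) (by omega), Nat.mod_eq_of_lt ha, Nat.mod_eq_of_lt hb]

/-- A singular vector has a code squaring to zero. -/
theorem pv_singular {u : ℕ} (hu : u < 256) (h : S.space.q (L.pv S u) = 0) : bB u u = false := by
  have hu' : u < 512 := by omega
  have h1 := (S.qv_eq_zero (L.x_memQ S hu')).1 h
  rw [L.x_mul _ hu' _ hu', ← L.x_zero] at h1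
  have h2 := L.x_inj _ (qm_lt _ hu' _ hu') _ (by norm_num) h1
  rw [qm_self u hu'] at h2
  cases hb : bB u u
  · rfl
  · rw [hb] at h2; exact absurd h2 (by decide)

theorem im8_lt (e u : ℕ) : im8 e u < 256 := Nat.mod_lt _ (by norm_num)

theorem act_pv8 {c : G} {e : ℕ} (hc : L.Cd c e) {u : ℕ} (hu : u < 256) :
    S.act c (L.pv S u) = L.pv S (im8 e u) := by
  have hu' : u < 512 := by omega
  rw [L.act_pv S hc hu', L.pv_inj S (appC_lt _ _) (by have := im8_lt e u; omega), im8, appF_eq _ hu', Nat.mod_mod]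

theorem act_dif8 {c : G} {e : ℕ} (hc : L.Cd c e) {u : ℕ} (hu : u < 256) :
    S.act c (L.pv S u) + L.pv S u = L.pv S (dif8 e u) := by
  rw [L.act_pv8 S hc hu, L.pv_add S (im8_lt e u) hu, dif8]

theorem act_letter_sq (j : Fin 7) : S.act (L.h j) * S.act (L.h j) = 1 := by
  rw [← S.act_mul (L.h_z j) (L.h_z j), ← S.act_one]
  exact (((Cd.letter L j).mulF (Cd.letter L j)).key_iff S (Cd.one L)).1 (letC_sq j)

theorem act_rev8 : ∀ l : List (Fin 7),
    S.act (l.reverse.map L.h).prod = (S.act (l.map L.h).prod)⁻¹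
  | [] => by simp [S.act_one]
  | j :: l => by
    rw [List.reverse_cons, List.map_append, List.prod_append, S.act_mul (L.word_comm _) (L.word_comm _),
      act_rev8 l, List.map_singleton, List.prod_singleton, List.map_cons, List.prod_cons,
      S.act_mul (L.h_z j) (L.word_comm l), mul_inv_rev,
      show (S.act (L.h j))⁻¹ = S.act (L.h j) from inv_eq_of_mul_eq_one_left (L.act_letter_sq S j)]

variable [Finite G]

/-- The listed Sylow subgroup fixes 128. -/
theorem img_fix {p : Equiv.Perm S.Vz} (hp : p ∈ L.img S) : p (L.pv S 128) = L.pv S 128 := by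
  induction hp using Subgroup.closure_induction with
  | mem q hq =>
    obtain ⟨k, rfl⟩ := hq
    have h := List.all_eq_true.1 check_syl k.val (List.mem_range.2 k.isLt)
    rw [L.act_pv8 S (L.Cd_sylEl k.isLt) (by norm_num), beq_iff_eq.1 h]
  | one => rfl
  | mul q r _ _ hq hr => rw [Equiv.Perm.mul_apply, hr, hq]
  | inv q _ hq => exact Equiv.Perm.inv_eq_iff_eq.2 hq.symm

/-- A two-subgroup of the image normalised by the listed subgroup lies in it. -/
theorem le_img (K : Subgroup (Equiv.Perm S.Vz)) (hK : K ≤ S.grp) (h2 : IsPGroup 2 K)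
    (hn : ∀ p ∈ L.img S, ∀ k ∈ K, p * k * p⁻¹ ∈ K) : K ≤ L.img S := by
  haveI := S.space.fin
  haveI : Fact (Nat.Prime 2) := ⟨Nat.prime_two⟩
  have hnorm : L.img S ≤ Subgroup.normalizer (K : Set (Equiv.Perm S.Vz)) := fun p hp =>
    Subgroup.mem_normalizer_iff.2 fun k => ⟨hn p hp k, fun h => by
      have := hn p⁻¹ (inv_mem hp) _ h
      rwa [inv_inv, show p⁻¹ * (p * k * p⁻¹) * p = k by group] at this⟩
  have hi : IsPGroup 2 (L.img S) := IsPGroup.of_card (n := 9) ((L.card_img S).trans (by norm_num))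
  have hsup := hi.to_sup_of_normal_right' h2 hnorm
  obtain ⟨m, hm⟩ := IsPGroup.iff_card.1 hsup
  have hd := Subgroup.card_dvd_of_le (sup_le (L.img_le S) hK)
  rw [hm, card_grp S] at hd
  have hm9 : m ≤ 9 := by
    by_contra h
    have := (pow_dvd_pow 2 (show 10 ≤ m by omega)).trans hd
    norm_num at this
  have he : L.img S = L.img S ⊔ K := Subgroup.eq_of_le_of_card_ge le_sup_left (by
    rw [hm, L.card_img S]
    exact (Nat.pow_le_pow_right (by norm_num) hm9).trans (by norm_num))
  exact le_sup_right.trans he.ge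

end Base

end Cfsg.Agent.CoTwoType
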